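import Groth.Agent.SiteCoh.Derived
import Groth.Agent.GrothSS.Ext

/-!
Higher direct images are, naturally, sheafified cohomology presheaves.
-/

set_option autoImplicit false
set_option linter.style.haveILetI false
set_option backward.isDefEq.respectTransparency false
set_option backward.isDefEq.respectTransparency.types false
set_option maxHeartbeats 1000000

universe u

open CategoryTheory Category Limits Opposite Abelian

namespace Groth.Agent.W7SiteFunctor

open Groth.Agent.SiteCoh

variable {C : Type u} [SmallCategory C] {J : GrothendieckTopology C}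

lemma classMap_naturality {F G : Sheaf J AddCommGrpCat.{u}} {R : InjectiveResolution F}
    {R' : InjectiveResolution G} {f : F ⟶ G} (φ : InjectiveResolution.Hom R R' f) (n : ℕ) :
    classMap R n ≫ (Sheaf.cohomologyPresheafFunctor J n).map f =
      HomologicalComplex.cyclesMap
        (((sheafToPresheaf J AddCommGrpCat.{u}).mapHomologicalComplex _).map φ.hom) n ≫ classMap R' n := by
  ext U z
  change (classOf R n U.unop z).comp (Ext.mk₀ f) (add_zero n) =
    classOf R' n U.unop ((HomologicalComplex.cyclesMap
      (((sheafToPresheaf J AddCommGrpCat.{u}).mapHomologicalComplex _).map φ.hom) n).app U z)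
  rw [classOf, classOf, secClass, secClass, R.extMk_comp_mk₀ _ _ _ _ φ]
  refine extMk_congr R' _ _ _ _ ((secEquiv U.unop _).injective ?_)
  rw [secEquiv_comp, AddEquiv.apply_symm_apply, AddEquiv.apply_symm_apply]
  exact (ConcreteCategory.congr_hom (NatTrans.congr_app (HomologicalComplex.cyclesMap_i
    (((sheafToPresheaf J AddCommGrpCat.{u}).mapHomologicalComplex _).map φ.hom) n) U) z).symm

lemma homologyToCohomology_naturality {F G : Sheaf J AddCommGrpCat.{u}} {R : InjectiveResolution F}
    {R' : InjectiveResolution G} {f : F ⟶ G} (φ : InjectiveResolution.Hom R R' f) (n : ℕ) :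
    homologyToCohomology R n ≫ (Sheaf.cohomologyPresheafFunctor J n).map f =
      HomologicalComplex.homologyMap
        (((sheafToPresheaf J AddCommGrpCat.{u}).mapHomologicalComplex _).map φ.hom) n ≫
        homologyToCohomology R' n := by
  rw [← cancel_epi ((preCx R).homologyπ n)]
  refine (reassoc_of% (homologyπ_homologyToCohomology R n)) _ |>.trans ?_
  rw [classMap_naturality φ n, HomologicalComplex.homologyπ_naturality_assoc,
    homologyπ_homologyToCohomology]

/-- a lift of a map to injective resolutions -/
noncomputable def liftHom {F G : Sheaf J AddCommGrpCat.{u}} (f : F ⟶ G) :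
    InjectiveResolution.Hom (injectiveResolution F) (injectiveResolution G) f where
  hom := InjectiveResolution.desc f (injectiveResolution G) (injectiveResolution F)
  ι_f_zero_comp_hom_f_zero :=
    (InjectiveResolution.desc_commutes_zero f (injectiveResolution G) (injectiveResolution F)).trans
      (by simp)

variable (J) in
/-- Derived functors of the inclusion of sheaves are the cohomology presheaves, naturally. -/
noncomputable def rightDerivedPreIso (n : ℕ) :
    (sheafToPresheaf J AddCommGrpCat.{u}).rightDerived n ≅ Sheaf.cohomologyPresheafFunctor J n :=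
  NatIso.ofComponents
    (fun F => (injectiveResolution F).isoRightDerivedObj _ n ≪≫ homologyIsoCohomology F n)
    (fun {F G} f => by
      have h := InjectiveResolution.isoRightDerivedObj_hom_naturality f (injectiveResolution F)
        (injectiveResolution G) (liftHom f).hom
        ((liftHom f).ι_f_zero_comp_hom_f_zero.trans (by simp)) (sheafToPresheaf J AddCommGrpCat.{u}) n
      simp only [Iso.trans_hom, homologyIsoCohomology, asIso_hom]
      refine ((reassoc_of% h) _).trans ?_
      refine Eq.trans ?_ (Category.assoc _ _ _).symm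
      exact congrArg (_ ≫ ·) (homologyToCohomology_naturality (liftHom f) n).symm)

section CompExact

variable {A B E : Type*} [Category A] [Category B] [Category E] [Abelian A] [Abelian B] [Abelian E]
  [HasInjectiveResolutions A] (F : A ⥤ B) [F.Additive] (G : B ⥤ E) [G.Additive] [G.PreservesHomology]

/-- right derived functors commute with exact functors, naturally -/
noncomputable def rightDerivedCompExactIso (n : ℕ) :
    (F ⋙ G).rightDerived n ≅ F.rightDerived n ⋙ G :=
  NatIso.ofComponents
    (fun X => (injectiveResolution X).isoRightDerivedObj (F ⋙ G) n ≪≫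
      (ShortComplex.mapHomologyIso
        (((F.mapHomologicalComplex (ComplexShape.up ℕ)).obj (injectiveResolution X).cocomplex).sc n) G) ≪≫
      G.mapIso ((injectiveResolution X).isoRightDerivedObj F n).symm)
    (fun {X Y} f => by
      let R := injectiveResolution X
      let R' := injectiveResolution Y
      let φ := InjectiveResolution.desc f R' R
      have hφ : R.ι.f 0 ≫ φ.f 0 = f ≫ R'.ι.f 0 := InjectiveResolution.desc_commutes_zero f R' R
      have h := InjectiveResolution.isoRightDerivedObj_hom_naturality f R R' φ hφ (F ⋙ G) n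
      have h' := InjectiveResolution.isoRightDerivedObj_inv_naturality f R R' φ hφ F n
      simp only [Iso.trans_hom, Functor.mapIso_hom, Iso.symm_hom, Functor.comp_map, assoc]
      refine ((reassoc_of% h) _).trans (congrArg (_ ≫ ·) ?_)
      rw [← G.map_comp, h', G.map_comp, ← assoc, ← assoc]
      refine congrArg (· ≫ _) ?_
      exact ShortComplex.mapHomologyIso_hom_naturality
        ((HomologicalComplex.shortComplexFunctor B (ComplexShape.up ℕ) n).map
          ((F.mapHomologicalComplex (ComplexShape.up ℕ)).map φ)) G)

end CompExact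

variable {D : Type u} [SmallCategory D] (K : GrothendieckTopology D) (u : D ⥤ C) [u.IsContinuous K J]

/-- Higher direct images are the sheafified cohomology presheaves, naturally. -/
noncomputable def rpushNatIso (n : ℕ) :
    CohSite.Rpush J K u n ≅ Sheaf.cohomologyPresheafFunctor J n ⋙
      ((Functor.whiskeringLeft Dᵒᵖ Cᵒᵖ AddCommGrpCat.{u}).obj u.op ⋙
        presheafToSheaf K AddCommGrpCat.{u}) :=
  let Q : (Cᵒᵖ ⥤ AddCommGrpCat.{u}) ⥤ Sheaf K AddCommGrpCat.{u} :=
    (Functor.whiskeringLeft Dᵒᵖ Cᵒᵖ AddCommGrpCat.{u}).obj u.op ⋙ presheafToSheaf K AddCommGrpCat.{u}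
  haveI : ((Functor.whiskeringLeft Dᵒᵖ Cᵒᵖ AddCommGrpCat.{u}).obj u.op).PreservesHomology :=
    Functor.preservesHomologyOfExact _
  haveI : Q.Additive := inferInstanceAs (Functor.Additive
    ((Functor.whiskeringLeft Dᵒᵖ Cᵒᵖ AddCommGrpCat.{u}).obj u.op ⋙ presheafToSheaf K AddCommGrpCat.{u}))
  haveI : PreservesFiniteLimits Q := comp_preservesFiniteLimits _ _
  haveI : PreservesFiniteColimits Q :=
    haveI : (presheafToSheaf K AddCommGrpCat.{u}).IsLeftAdjoint :=
      (sheafificationAdjunction K AddCommGrpCat.{u}).isLeftAdjoint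
    haveI : PreservesFiniteColimits (presheafToSheaf K AddCommGrpCat.{u}) := ⟨fun _ => inferInstance⟩
    comp_preservesFiniteColimits _ _
  haveI : Q.PreservesHomology := Functor.preservesHomologyOfExact Q
  GrothSS.rightDerivedMapIso (F := CohSite.push J K u) (G := sheafToPresheaf J AddCommGrpCat.{u} ⋙ Q)
      (Functor.isoWhiskerLeft (CohSite.push J K u)
        (asIso (sheafificationAdjunction K AddCommGrpCat.{u}).counit).symm :) n ≪≫
    rightDerivedCompExactIso (sheafToPresheaf J AddCommGrpCat.{u}) Q n ≪≫
    Functor.isoWhiskerRight (rightDerivedPreIso J n) Q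

theorem preservesColimit_rpush {ι : Type u} [SmallCategory ι] (F : ι ⥤ Sheaf J AddCommGrpCat.{u}) (p : ℕ)
    (h : ∀ V : D, ∃ (κ : Type u) (Y : κ → D) (g : ∀ k, Y k ⟶ V), Sieve.ofArrows Y g ∈ K V ∧
      ∀ k, PreservesColimit F ((Sheaf.cohomologyPresheafFunctor J p).flip.obj (op (u.obj (Y k))))) :
    PreservesColimit F (CohSite.Rpush J K u p) := by
  refine @preservesColimit_of_natIso _ _ _ _ _ _ F _ _ (rpushNatIso K u p).symm ?_
  let H := Sheaf.cohomologyPresheafFunctor J p ⋙
    (Functor.whiskeringLeft Dᵒᵖ Cᵒᵖ AddCommGrpCat.{u}).obj u.op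
  let G := presheafToSheaf K AddCommGrpCat.{u}
  haveI : G.IsLeftAdjoint := (sheafificationAdjunction K AddCommGrpCat.{u}).isLeftAdjoint
  refine preservesColimit_of_preserves_colimit_cocone (colimit.isColimit F) ?_
  let c := colimit.cocone (F ⋙ H)
  let d := colimit.post F H
  have hI : ∀ V : Dᵒᵖ, PreservesColimit F
      ((Sheaf.cohomologyPresheafFunctor J p).flip.obj (op (u.obj V.unop))) → IsIso (d.app V) := by
    intro V hV
    let ev := (evaluation Dᵒᵖ AddCommGrpCat.{u}).obj V
    haveI : PreservesColimit F (H ⋙ ev) := hV
    let c1 := isColimitOfPreserves ev (colimit.isColimit (F ⋙ H))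
    let c2 := isColimitOfPreserves (H ⋙ ev) (colimit.isColimit F)
    have e : d.app V = (c1.coconePointUniqueUpToIso c2).hom := by
      refine c1.hom_ext fun j => ?_
      refine Eq.trans ?_ (c1.comp_coconePointUniqueUpToIso_hom c2 j).symm
      exact NatTrans.congr_app (colimit.ι_post F H j) V
    rw [e]
    infer_instance
  have hd : IsIso (G.map d) := by
    haveI : Presheaf.IsLocallyInjective K d := ⟨fun {V} x y hxy => by
      obtain ⟨κ, Y, g, hY, hk⟩ := h V.unop
      refine K.superset_covering (Sieve.generate_le_iff _ _ |>.2 ?_) hY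
      rintro W _ ⟨k⟩
      have hk' := hI (op _) (hk k)
      refine (ConcreteCategory.isIso_iff_bijective _).1 hk' |>.1 ?_
      rw [NatTrans.naturality_apply, NatTrans.naturality_apply, hxy]⟩
    haveI : Presheaf.IsLocallySurjective K d := ⟨fun {V} x => by
      obtain ⟨κ, Y, g, hY, hk⟩ := h V
      refine K.superset_covering (Sieve.generate_le_iff _ _ |>.2 ?_) hY
      rintro W _ ⟨k⟩
      have hk' := hI (op _) (hk k)
      exact (ConcreteCategory.isIso_iff_bijective _).1 hk' |>.2 _⟩
    exact (GrothendieckTopology.W_iff (J := K) d).1 (K.W_of_isLocallyBijective d)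
  exact (isColimitOfPreserves G (colimit.isColimit (F ⋙ H))).ofIsoColimit
    (Cocone.ext (asIso (G.map d)) fun j =>
      (G.map_comp _ _).symm.trans (congrArg G.map (colimit.ι_post F H j)))

end Groth.Agent.W7SiteFunctor
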