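import Groth.Agent.SiteCoh.Cartan
import Groth.Agent.SiteCoh.Compare
import Groth.Agent.SiteCoh.Derived
import Mathlib.CategoryTheory.Sites.CoverLifting
import Mathlib.CategoryTheory.Limits.Preserves.Shapes.Over
import Mathlib.CategoryTheory.Limits.Constructions.FiniteProductsOfBinaryProducts
import Mathlib.CategoryTheory.Limits.Constructions.Over.Products

/-!
Čech cohomology along functors preserving fibre products.
-/

set_option autoImplicit false
set_option linter.style.haveILetI false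
set_option backward.isDefEq.respectTransparency false
set_option backward.isDefEq.respectTransparency.types false

universe u v v'

open CategoryTheory Category Limits Opposite Abelian

namespace Groth.Agent.W7SiteFunctor

open Groth.Agent.SiteCoh

section Coinduced

variable {E : Type u} [Category.{u} E] [HasFiniteProducts E] {D : Type u} [Category.{u} D]
  (Φ : E ⥤ D) [PreservesFiniteProducts Φ] {κ : Type u} (Z : κ → E)

/-- maps into the image of the product of a tuple -/
noncomputable def liftTuple {n : ℕ} (a : Fin (n + 1) → κ) {V : D} (e : ∀ k, V ⟶ Φ.obj (Z (a k))) :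
    V ⟶ Φ.obj (tupleProd Z a) :=
  (isLimitFanMkObjOfIsLimit Φ _ _ (productIsProduct (Z ∘ a))).lift (Fan.mk V e)

lemma liftTuple_π {n : ℕ} (a : Fin (n + 1) → κ) {V : D} (e : ∀ k, V ⟶ Φ.obj (Z (a k)))
    (k : Fin (n + 1)) : liftTuple Φ Z a e ≫ Φ.map (Pi.π (Z ∘ a) k) = e k :=
  (isLimitFanMkObjOfIsLimit Φ _ _ (productIsProduct (Z ∘ a))).fac (Fan.mk V e) ⟨k⟩

lemma tuple_hom_ext {n : ℕ} (a : Fin (n + 1) → κ) {V : D} (f g : V ⟶ Φ.obj (tupleProd Z a))
    (h : ∀ k, f ≫ Φ.map (Pi.π (Z ∘ a) k) = g ≫ Φ.map (Pi.π (Z ∘ a) k)) : f = g :=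
  (isLimitFanMkObjOfIsLimit Φ _ _ (productIsProduct (Z ∘ a))).hom_ext fun k => h k.as

theorem cechExact_coind_comp (A : D → AddCommGrpCat.{u}) (n : ℕ) :
    CechExact Z (Φ.op ⋙ coind A) n := by
  intro x hx
  let φ : ∀ V : D, (Fin (n + 2) → Σ i : κ, (V ⟶ Φ.obj (Z i))) → A V :=
    fun V e => x (fun k => (e k).1) V (liftTuple Φ Z (fun k => (e k).1) fun k => (e k).2)
  let extra : ∀ V : D, Nonempty (Σ i : κ, (V ⟶ Φ.obj (Z i))) → (Σ i : κ, (V ⟶ Φ.obj (Z i))) :=
    fun V h => h.some
  let ofHom : ∀ {m : ℕ} (a : Fin (m + 1) → κ) (V : D), (V ⟶ Φ.obj (tupleProd Z a)) →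
      Fin (m + 1) → Σ i : κ, (V ⟶ Φ.obj (Z i)) :=
    fun a V f k => ⟨a k, f ≫ Φ.map (Pi.π (Z ∘ a) k)⟩
  have hφ : ∀ (a : Fin (n + 2) → κ) (V : D) (f : V ⟶ Φ.obj (tupleProd Z a)),
      φ V (ofHom a V f) = x a V f := by
    intro a V f
    refine congr_arg (x a V) ?_
    exact tuple_hom_ext Φ Z _ _ _ fun k => liftTuple_π Φ Z a _ k
  let y : Cochain Z (Φ.op ⋙ coind A) n := fun a V f =>
    φ V (Fin.cons (α := fun _ => Σ i : κ, (V ⟶ Φ.obj (Z i))) (extra V ⟨ofHom a V f 0⟩) (ofHom a V f))
  refine ⟨y, funext fun a => funext fun V => funext fun f => ?_⟩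
  have hsum : ∀ {m : ℕ} (z : Cochain Z (Φ.op ⋙ coind A) m) (b : Fin (m + 2) → κ)
      (g : V ⟶ Φ.obj (tupleProd Z b)),
      (cd Z (Φ.op ⋙ coind A) z b : ∀ W : D, (W ⟶ Φ.obj (tupleProd Z b)) → A W) V g =
        ∑ k : Fin (m + 2), (-1 : ℤ) ^ (k : ℕ) •
          z (b ∘ k.succAbove) V (g ≫ Φ.map (tupleDrop Z b k)) := by
    intro m z b g
    let evh : ((Φ.op ⋙ coind A).obj (op (tupleProd Z b))) →+ A V :=
      AddMonoidHom.mk' (fun w => w V g) (fun _ _ => rfl)
    change evh (cd Z (Φ.op ⋙ coind A) z b) = _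
    rw [cd_sum, map_sum]
    exact Finset.sum_congr rfl fun k _ => map_zsmul evh _ _
  have hdrop : ∀ {m : ℕ} (b : Fin (m + 2) → κ) (g : V ⟶ Φ.obj (tupleProd Z b)) (k : Fin (m + 2)),
      ofHom (b ∘ k.succAbove) V (g ≫ Φ.map (tupleDrop Z b k)) = ofHom b V g ∘ k.succAbove := by
    intro m b g k
    funext i
    simp only [ofHom, Function.comp_apply, Category.assoc]
    congr 2
    rw [← Φ.map_comp]
    exact congrArg Φ.map (Pi.lift_π _ _)
  set es := extra V ⟨ofHom a V f 0⟩
  let e' : Fin (n + 3) → Σ i : κ, (V ⟶ Φ.obj (Z i)) := Fin.cons es (ofHom a V f)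
  let b : Fin (n + 3) → κ := fun k => (e' k).1
  let g : V ⟶ Φ.obj (tupleProd Z b) := liftTuple Φ Z b fun k => (e' k).2
  have he' : ofHom b V g = e' := by
    funext k
    change (⟨(e' k).1, g ≫ Φ.map (Pi.π (Z ∘ b) k)⟩ : Σ i : κ, (V ⟶ Φ.obj (Z i))) = _
    rw [show g ≫ Φ.map (Pi.π (Z ∘ b) k) = (e' k).2 from liftTuple_π Φ Z b _ k]
  have h0 := hsum x b g
  rw [hx] at h0
  change (0 : A V) = _ at h0
  have hterm : ∀ k : Fin (n + 3), x (b ∘ k.succAbove) V (g ≫ Φ.map (tupleDrop Z b k)) =
      φ V (e' ∘ k.succAbove) := by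
    intro k
    rw [← hφ, hdrop, he']
  simp only [hterm] at h0
  rw [Fin.sum_univ_succ] at h0
  rw [hsum]
  have hy : ∀ k : Fin (n + 2), y (a ∘ k.succAbove) V (f ≫ Φ.map (tupleDrop Z a k)) =
      φ V (e' ∘ k.succ.succAbove) := by
    intro k
    simp only [y, hdrop]
    congr 1
    funext i
    refine Fin.cases ?_ (fun i => ?_) i
    · simp [e', es, Function.comp]
    · simp [e', Function.comp, Fin.succ_succAbove_succ]
  have h00 : e' ∘ (0 : Fin (n + 3)).succAbove = ofHom a V f := by funext i; simp [e']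
  simp only [hy]
  simp only [h00, hφ, Fin.val_zero, pow_zero, one_zsmul, Fin.val_succ, pow_succ, mul_neg, mul_one,
    neg_smul, Finset.sum_neg_distrib] at h0
  exact (sub_eq_zero.mp (by rw [sub_eq_add_neg]; exact h0.symm)).symm

end Coinduced

variable {C : Type u} [SmallCategory C] {D : Type u} [SmallCategory D] [HasPullbacks C]
  (u : C ⥤ D) [PreservesLimitsOfShape WalkingCospan u]

instance preservesFiniteProducts_overPost (U : C) : PreservesFiniteProducts (Over.post u (X := U)) := by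
  haveI : PreservesLimitsOfShape (Discrete WalkingPair) (Over.post u (X := U)) := by
    haveI : PreservesLimitsOfShape (WidePullbackShape WalkingPair) u :=
      inferInstanceAs (PreservesLimitsOfShape WalkingCospan u)
    infer_instance
  haveI : PreservesLimit (Functor.empty.{0} (Over U)) (Over.post u (X := U)) :=
    preservesLimit_of_preserves_limit_cone Over.mkIdTerminal
      ((isLimitMapConeEmptyConeEquiv (Over.post u) (Over.mk (𝟙 U))).symm
        (Over.mkIdTerminal.ofIso (Over.isoMk (Iso.refl (u.obj U)) ((Category.id_comp _).trans (u.map_id U)))))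
  haveI : PreservesLimitsOfShape (Discrete PEmpty.{1}) (Over.post u (X := U)) :=
    preservesLimitsOfShape_pempty_of_preservesTerminal _
  exact Limits.PreservesFiniteProducts.of_preserves_binary_and_terminal _

theorem cechExact_comp_injective {K : GrothendieckTopology D} (I : Sheaf K AddCommGrpCat.{u}) [Injective I]
    {U : C} {κ : Type u} (Z : κ → Over U) (n : ℕ) :
    CechExact Z ((Over.forget U).op ⋙ u.op ⋙ I.obj) n := by
  haveI : Injective I.obj :=
    Injective.injective_of_adjoint (sheafificationAdjunction K AddCommGrpCat.{u}) I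
  let A : D → AddCommGrpCat.{u} := fun V => I.obj.obj (op V)
  let B : Over (u.obj U) → AddCommGrpCat.{u} := fun W => A W.left
  let P : (Over (u.obj U))ᵒᵖ ⥤ AddCommGrpCat.{u} := (Over.forget (u.obj U)).op ⋙ I.obj
  let r : coind (fun W : Over (u.obj U) => P.obj (op W)) ⟶ P :=
    coindOverTo A (u.obj U) ≫
      Functor.whiskerLeft (Over.forget (u.obj U)).op (Injective.factorThru (𝟙 I.obj) (toCoind I.obj))
  have hr : toCoind P ≫ r = 𝟙 P := by
    ext W s
    exact (ConcreteCategory.congr_hom (NatTrans.congr_app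
      (Injective.comp_factorThru (𝟙 I.obj) (toCoind I.obj)) (op W.unop.left)) s)
  let Φ := Over.post u (X := U)
  exact cechExact_of_retract (Functor.whiskerLeft Φ.op (toCoind P)) (Functor.whiskerLeft Φ.op r)
    ((Functor.whiskerLeft_comp _ _ _).symm.trans
      ((congrArg (Functor.whiskerLeft Φ.op) hr).trans (Functor.whiskerLeft_id' _)))
    (cechExact_coind_comp Φ Z _ n)

variable {J : GrothendieckTopology C} {K : GrothendieckTopology D} [u.IsContinuous J K]

theorem push_injective_acyclic (I : Sheaf K AddCommGrpCat.{u}) [Injective I]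
    (U : C) (p : ℕ) : Subsingleton (CohSite.HU ((CohSite.push K J u).obj I) (p + 1) U) := by
  refine cartan Set.univ
    (fun U ι Y => Sieve.ofArrows (fun i => (Y i).left) (fun i => (Y i).hom) ∈ J U)
    (fun U ι Y hY => ⟨trivial, hY, fun _ _ => trivial⟩) (fun U _ T hT => ?_) _ (fun U ι Y hY p => ?_)
    U trivial p
  · refine ⟨Σ V : C, { f : V ⟶ U // T.arrows f }, fun i => Over.mk i.2.1, ?_, fun i => i.2.2⟩
    refine J.superset_covering ?_ hT
    intro V f hf
    exact ⟨V, 𝟙 V, f, Presieve.ofArrows.mk (⟨V, f, hf⟩ : Σ V : C, { f : V ⟶ U // T.arrows f }), Category.id_comp f⟩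
  · exact cechExact_comp_injective u I (fun i => Y i) p

theorem nonempty_huPushEquiv [u.IsCocontinuous J K] (F : Sheaf K AddCommGrpCat.{u}) (U : C) (p : ℕ) :
    Nonempty (CohSite.HU ((CohSite.push K J u).obj F) p U ≃+ CohSite.HU F p (u.obj U)) := by
  haveI : (CohSite.push K J u).IsLeftAdjoint :=
    (u.sheafAdjunctionCocontinuous AddCommGrpCat.{u} J K).isLeftAdjoint
  haveI : PreservesFiniteColimits (CohSite.push K J u) :=
    ⟨fun _ => inferInstance⟩
  haveI : (CohSite.push K J u).IsRightAdjoint := inferInstance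
  haveI : PreservesFiniteLimits (CohSite.push K J u) :=
    ⟨fun _ => inferInstance⟩
  haveI : (CohSite.push K J u).Additive := Functor.additive_of_preserves_binary_products _
  induction p generalizing F with
  | zero => exact ⟨(hu0 ((CohSite.push K J u).obj F) U).trans (hu0 F (u.obj U)).symm⟩
  | succ p ih =>
    let T := CohSite.push K J u
    let S := embedSeq F
    have hS : S.ShortExact := embedSeq_shortExact F
    have hTS : (S.map T).ShortExact := hS.map_of_exact T
    haveI hI : ∀ k : ℕ, Subsingleton (Ext (CohCx.freeSheaf J U) (S.map T).X₂ (k + 1)) :=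
      push_injective_acyclic u S.X₂ U
    haveI hI' : ∀ k : ℕ, Subsingleton (Ext (CohCx.freeSheaf K (u.obj U)) S.X₂ (k + 1)) :=
      fun k => subsingleton_ext_injective _ _ k
    obtain _ | m := p
    · obtain ⟨ψ, hψ, hψk⟩ := hu_one_presentation hTS (U := U) hI
      obtain ⟨ψ', hψ', hψk'⟩ := hu_one_presentation hS (U := u.obj U) hI'
      exact ⟨equivOfKerEq ψ ψ' hψ hψ' fun x => Iff.trans (hψk x) (hψk' x).symm⟩
    · obtain ⟨e⟩ := ih S.X₃
      haveI := hI m
      haveI := hI (m + 1)
      haveI := hI' m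
      haveI := hI' (m + 1)
      exact ⟨((shiftEquiv hTS (CohCx.freeSheaf J U) (m + 1)).symm.trans e).trans
        (shiftEquiv hS (CohCx.freeSheaf K (u.obj U)) (m + 1))⟩

end Groth.Agent.W7SiteFunctor
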